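import Cfsg.Agent.H634.HypS
import Cfsg.Agent.H634.Fus
import Cfsg.Agent.H634.Red
import Cfsg.Agent.PLocal.CoprimeLift
import Cfsg.Agent.Transfer.NormalPComplement
import Cfsg.Agent.S0028

/-!
# `p`-nilpotent centralizers and at most two classes of `p`-elements (task 1764, T9 for S4615)

For `p` odd the Sylow `p`-subgroups are abelian.
-/

set_option autoImplicit false

open Cfsg

namespace Cfsg.Agent.H211.Two.SylComm

open Cfsg.Agent.H634.ZJ Cfsg.Agent.H634.Fus Cfsg.Agent.H634.HypS Cfsg.Agent.Classification.ZNEndA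

/-! ### Counting -/

section count

variable {X : Type*} [Group X] [Finite X]

/-- the number of the elements `g` with `g x g⁻¹ ∈ A` -/
theorem card_conj_mem (x : X) (A : Set X) : Nat.card {g : X // g * x * g⁻¹ ∈ A} =
    Nat.card (Subgroup.centralizer ({x} : Set X)) * Nat.card {a : X // a ∈ A ∧ IsConj x a} := by
  classical
  let f : {g : X // g * x * g⁻¹ ∈ A} → {a : X // a ∈ A ∧ IsConj x a} :=
    fun g => ⟨g.1 * x * g.1⁻¹, g.2, isConj_iff.2 ⟨g.1, rfl⟩⟩
  have h1 : ∀ b, Nat.card {g // f g = b} = Nat.card (Subgroup.centralizer ({x} : Set X)) := by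
    rintro ⟨a, ha, hconj⟩
    obtain ⟨c, hc⟩ := isConj_iff.1 hconj
    have hfg : ∀ g : {g : X // g * x * g⁻¹ ∈ A}, f g = ⟨a, ha, hconj⟩ ↔ g.1 * x * g.1⁻¹ = a := fun g =>
      Subtype.ext_iff
    refine Nat.card_congr
      { toFun := fun g => ⟨c⁻¹ * g.1.1, ?_⟩
        invFun := fun z => ⟨⟨c * z, ?_⟩, ?_⟩
        left_inv := fun g => ?_
        right_inv := fun z => ?_ }
    · have h2 := (hfg g.1).1 g.2
      rw [Subgroup.mem_centralizer_singleton_iff]
      have h3 : x = c⁻¹ * a * c := by rw [← hc]; group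
      have h4 : g.1.1 * x = a * g.1.1 := by
        calc g.1.1 * x = (g.1.1 * x * g.1.1⁻¹) * g.1.1 := by group
          _ = a * g.1.1 := by rw [h2]
      calc c⁻¹ * g.1.1 * x = c⁻¹ * (g.1.1 * x) := by group
        _ = c⁻¹ * (a * g.1.1) := by rw [h4]
        _ = (c⁻¹ * a * c) * (c⁻¹ * g.1.1) := by group
        _ = x * (c⁻¹ * g.1.1) := by rw [← h3]
    · have h2 := Subgroup.mem_centralizer_singleton_iff.1 z.2
      have h3 : c * (z : X) * x * (c * (z : X))⁻¹ = a := by
        rw [← hc]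
        calc c * (z : X) * x * (c * (z : X))⁻¹ = c * ((z : X) * x) * (z : X)⁻¹ * c⁻¹ := by group
          _ = c * (x * (z : X)) * (z : X)⁻¹ * c⁻¹ := by rw [h2]
          _ = _ := by group
      rw [h3]
      exact ha
    · rw [hfg]
      have h2 := Subgroup.mem_centralizer_singleton_iff.1 z.2
      refine Eq.trans ?_ hc
      calc c * (z : X) * x * (c * (z : X))⁻¹ = c * ((z : X) * x) * (z : X)⁻¹ * c⁻¹ := by group
        _ = c * (x * (z : X)) * (z : X)⁻¹ * c⁻¹ := by rw [h2]
        _ = _ := by group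
    · apply Subtype.ext
      apply Subtype.ext
      show c * (c⁻¹ * g.1.1) = g.1.1
      group
    · apply Subtype.ext
      show c⁻¹ * (c * (z : X)) = z
      group
  let _ : Fintype {a : X // a ∈ A ∧ IsConj x a} := Fintype.ofFinite _
  rw [Nat.card_congr (Equiv.sigmaFiberEquiv f).symm, Nat.card_sigma]
  simp only [h1]
  rw [Finset.sum_const, Finset.card_univ, smul_eq_mul, Nat.card_eq_fintype_card (α := {a : X // a ∈ A ∧ IsConj x a}),
    mul_comm]

theorem arith {p : ℕ} (hp : p.Prime) {m k c : ℕ} (hm : ∃ i, m = p ^ i) (hk : ∃ j, k = p ^ j) (hc : ∃ l, c = p ^ l)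
    (hm1 : 1 < m) (hc1 : 1 < c) (h : k * (m - 1) = m * (c - 1)) : c = k := by
  obtain ⟨i, rfl⟩ := hm
  obtain ⟨j, rfl⟩ := hk
  obtain ⟨l, rfl⟩ := hc
  have key : ∀ s t : ℕ, 1 < p ^ s → Nat.Coprime (p ^ t) (p ^ s - 1) := by
    intro s t hs
    apply Nat.Coprime.pow_left
    rw [Nat.Prime.coprime_iff_not_dvd hp]
    intro h1
    have hs0 : s ≠ 0 := by rintro rfl; simp at hs
    have h2 : p ∣ p ^ s := dvd_pow_self p hs0
    have h3 := Nat.dvd_sub h2 h1
    rw [Nat.sub_sub_self hs.le] at h3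
    exact hp.one_lt.ne' (Nat.dvd_one.1 h3)
  have h1 : p ^ i ∣ p ^ j := (key i i hm1).dvd_of_dvd_mul_right (by rw [h]; exact Dvd.intro _ rfl)
  have h2 : p ^ j ∣ p ^ i := (key l j hc1).dvd_of_dvd_mul_right (by rw [← h]; exact Dvd.intro _ rfl)
  have h3 := Nat.dvd_antisymm h1 h2
  rw [h3] at h hm1
  have h4 := Nat.eq_of_mul_eq_mul_left (by omega) h
  omega

theorem main_count {p : ℕ} [hp : Fact p.Prime] {P A : Subgroup X} (hP : IsPGroup p P) (hAn : A.Normal) (hAP : A ≤ P)
    {z y : X} (hz : z ∈ A) (hz1 : z ≠ 1) (hA : ∀ a ∈ A, a ≠ 1 → IsConj z a)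
    (hC : Subgroup.centralizer ({z} : Set X) = P) (hy : y ∈ P) (hyA : y ∉ A) (hPA : ∀ a ∈ P, a ∉ A → IsConj y a)
    (hCy : IsPGroup p (Subgroup.centralizer ({y} : Set X))) : False := by
  classical
  have e1 := card_conj_mem y (P : Set X)
  have e2 := card_conj_mem z ((Subgroup.centralizer ({y} : Set X) : Subgroup X) : Set X)
  have e3 : Nat.card {g : X // g * y * g⁻¹ ∈ (P : Set X)} =
      Nat.card {g : X // g * z * g⁻¹ ∈ ((Subgroup.centralizer ({y} : Set X) : Subgroup X) : Set X)} := by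
    refine Nat.card_congr ((Equiv.inv X).subtypeEquiv fun g => ?_)
    rw [Equiv.inv_apply, inv_inv, SetLike.mem_coe, SetLike.mem_coe, ← hC, Subgroup.mem_centralizer_singleton_iff,
      Subgroup.mem_centralizer_singleton_iff]
    constructor
    · intro h
      calc g⁻¹ * z * g * y = g⁻¹ * (z * (g * y * g⁻¹)) * g := by group
        _ = g⁻¹ * ((g * y * g⁻¹) * z) * g := by rw [h]
        _ = y * (g⁻¹ * z * g) := by group
    · intro h
      calc g * y * g⁻¹ * z = g * (y * (g⁻¹ * z * g)) * g⁻¹ := by group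
        _ = g * ((g⁻¹ * z * g) * y) * g⁻¹ := by rw [h]
        _ = z * (g * y * g⁻¹) := by group
  -- the two sets
  have e4 : Nat.card {a : X // a ∈ (P : Set X) ∧ IsConj y a} = Nat.card P - Nat.card A := by
    have h1 : {a : X | a ∈ (P : Set X) ∧ IsConj y a} = (P : Set X) \ (A : Set X) := by
      ext a
      rw [Set.mem_ofPred_eq, Set.mem_sdiff]
      refine and_congr_right fun haP => ⟨fun h haA => ?_, fun h => hPA a haP h⟩
      obtain ⟨c, hc⟩ := isConj_iff.1 h.symm
      exact hyA (by rw [← hc]; exact hAn.conj_mem a haA c)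
    change Nat.card ({a : X | a ∈ (P : Set X) ∧ IsConj y a} : Set X) = _
    rw [h1, Nat.card_coe_set_eq, Set.ncard_sdiff hAP (Set.toFinite _), ← Nat.card_coe_set_eq, ← Nat.card_coe_set_eq]
    rfl
  have e5 : Nat.card {a : X // a ∈ ((Subgroup.centralizer ({y} : Set X) : Subgroup X) : Set X) ∧ IsConj z a} =
      Nat.card (A ⊓ Subgroup.centralizer ({y} : Set X) : Subgroup X) - 1 := by
    have h1 : {a : X | a ∈ ((Subgroup.centralizer ({y} : Set X) : Subgroup X) : Set X) ∧ IsConj z a} =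
        ((A ⊓ Subgroup.centralizer ({y} : Set X) : Subgroup X) : Set X) \ {1} := by
      ext a
      rw [Set.mem_ofPred_eq, Set.mem_sdiff, SetLike.mem_coe, SetLike.mem_coe, Subgroup.mem_inf, Set.mem_singleton_iff]
      constructor
      · rintro ⟨h1, h2⟩
        obtain ⟨c, hc⟩ := isConj_iff.1 h2
        refine ⟨⟨?_, h1⟩, ?_⟩
        · rw [← hc]; exact hAn.conj_mem z hz c
        · rintro rfl
          apply hz1
          calc z = c⁻¹ * (c * z * c⁻¹) * c := by group
            _ = 1 := by rw [hc]; group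
      · rintro ⟨⟨h1, h2⟩, h3⟩
        exact ⟨h2, hA a h1 h3⟩
    change Nat.card ({a : X | a ∈ ((Subgroup.centralizer ({y} : Set X) : Subgroup X) : Set X) ∧ IsConj z a} : Set X) = _
    rw [h1, Nat.card_coe_set_eq, Set.ncard_sdiff (Set.singleton_subset_iff.2 (Subgroup.one_mem _)) (Set.toFinite _),
      Set.ncard_singleton, ← Nat.card_coe_set_eq]
    rfl
  rw [e4] at e1
  rw [e5] at e2
  rw [hC] at e2
  -- the orders
  obtain ⟨i, hi⟩ := (IsPGroup.iff_card.1 hP)
  obtain ⟨a, ha⟩ := (IsPGroup.iff_card.1 (hP.to_le hAP))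
  obtain ⟨j, hj⟩ := (IsPGroup.iff_card.1 hCy)
  have hcp : IsPGroup p (A ⊓ Subgroup.centralizer ({y} : Set X) : Subgroup X) := hCy.to_le inf_le_right
  obtain ⟨l, hl⟩ := (IsPGroup.iff_card.1 hcp)
  have hmain : p ^ j * (p ^ i - p ^ a) = p ^ i * (p ^ l - 1) := by
    rw [← hj, ← hi, ← ha, ← hl]
    exact (e1.symm.trans e3).trans e2
  have hai : a < i := by
    have hlt : Nat.card A < Nat.card P := by
      rcases lt_or_eq_of_le (Subgroup.card_le_of_le hAP) with h | h
      · exact h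
      · exfalso
        have h1 := Subgroup.eq_of_le_of_card_ge hAP h.ge
        exact hyA (by rw [h1]; exact hy)
    rw [ha, hi] at hlt
    exact (Nat.pow_lt_pow_iff_right hp.out.one_lt).1 hlt
  have h1 : p ^ j * (p ^ (i - a) - 1) = p ^ (i - a) * (p ^ l - 1) := by
    have h2 : p ^ i = p ^ a * p ^ (i - a) := by rw [← pow_add]; congr 1; omega
    rw [h2, ← Nat.mul_sub_one] at hmain
    refine Nat.eq_of_mul_eq_mul_left (pow_pos hp.out.pos a) ?_
    calc p ^ a * (p ^ j * (p ^ (i - a) - 1)) = p ^ j * (p ^ a * (p ^ (i - a) - 1)) := by ring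
      _ = p ^ a * p ^ (i - a) * (p ^ l - 1) := hmain
      _ = _ := by ring
  have hc1 : 1 < p ^ l := by
    rw [← hl]
    have hmem : z ∈ (A ⊓ Subgroup.centralizer ({y} : Set X) : Subgroup X) := by
      refine ⟨hz, ?_⟩
      show z ∈ Subgroup.centralizer ({y} : Set X)
      rw [Subgroup.mem_centralizer_singleton_iff]
      have h2 : y ∈ Subgroup.centralizer ({z} : Set X) := by rw [hC]; exact hy
      exact (Subgroup.mem_centralizer_singleton_iff.1 h2).symm
    have hnt : Nontrivial (A ⊓ Subgroup.centralizer ({y} : Set X) : Subgroup X) :=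
      ⟨⟨⟨z, hmem⟩, 1, fun h => hz1 (congrArg Subtype.val h)⟩⟩
    exact Finite.one_lt_card_iff_nontrivial.2 hnt
  have h2 : p ^ l = p ^ j := arith hp.out ⟨i - a, rfl⟩ ⟨j, rfl⟩ ⟨l, rfl⟩
    (Nat.one_lt_pow (by omega) hp.out.one_lt) hc1 h1
  have h3 : (A ⊓ Subgroup.centralizer ({y} : Set X) : Subgroup X) = Subgroup.centralizer ({y} : Set X) :=
    Subgroup.eq_of_le_of_card_ge inf_le_right (by rw [hl, hj, h2])
  apply hyA
  have h4 : y ∈ Subgroup.centralizer ({y} : Set X) := Subgroup.mem_centralizer_singleton_iff.2 rfl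
  rw [← h3] at h4
  exact h4.1

/-- **The group `X` whose centralizers of nontrivial `p`-elements are `p`-groups.** -/
theorem comm_of_cent {p : ℕ} [hp : Fact p.Prime]
    (hcent : ∀ x : X, PEl p x → x ≠ 1 → IsPGroup p (Subgroup.centralizer ({x} : Set X)))
    (hT : ∀ x y z : X, PEl p x → x ≠ 1 → PEl p y → y ≠ 1 → PEl p z → z ≠ 1 →
      IsConj x y ∨ IsConj y z ∨ IsConj x z) {Q : Subgroup X} (hQn : Q.Normal) (hQp : IsPGroup p Q) (hQ1 : Q ≠ ⊥)
    (P : Sylow p X) : ∀ a ∈ P, ∀ b ∈ P, a * b = b * a := by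
  by_contra hnc
  push Not at hnc
  have hpel : ∀ a ∈ P, PEl p a := fun a ha => PEl.of_mem P.isPGroup' ha
  obtain ⟨z, hzQ, hz1, hzP⟩ := exists_fixed hQp hQ1 P.isPGroup' (by
    rw [Subgroup.normalizer_eq_top_iff.2 hQn]; exact le_top)
  have hzel : PEl p z := PEl.of_mem hQp hzQ
  have hCz : Subgroup.centralizer ({z} : Set X) = P := by
    refine P.is_maximal' (hcent z hzel hz1) ?_
    intro g hg
    rw [Subgroup.mem_centralizer_singleton_iff]
    exact hzP g hg
  have hzP' : z ∈ (P : Subgroup X) := by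
    rw [← hCz, Subgroup.mem_centralizer_singleton_iff]
  have hQP : Q ≤ P := (Lib.Cores.le_pCore hQn hQp).trans (Lib.Cores.pCore_le_sylow P)
  -- the choice of `A`
  obtain ⟨A, hAn, hAP, hzA, hAz, hPA⟩ : ∃ A : Subgroup X, A.Normal ∧ A ≤ P ∧ z ∈ A ∧
      (∀ a ∈ A, a ≠ 1 → IsConj z a) ∧ ¬ (P : Subgroup X) ≤ A := by
    by_cases hall : ∀ a ∈ Q, a ≠ 1 → IsConj z a
    · refine ⟨Q, hQn, hQP, hzQ, hall, fun hPQ => ?_⟩
      obtain ⟨a, ha, b, hb, hab⟩ := hnc
      apply hab
      by_cases ha1 : a = 1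
      · rw [ha1, one_mul, mul_one]
      obtain ⟨c, hc⟩ := isConj_iff.1 (hall a (hPQ ha) ha1)
      have h1 : c⁻¹ * b * c ∈ (P : Subgroup X) := by
        apply hQP
        have := hQn.conj_mem b (hPQ hb) c⁻¹
        rwa [inv_inv] at this
      have h2 := hzP _ h1
      rw [← hc]
      calc c * z * c⁻¹ * b = c * (z * (c⁻¹ * b * c)) * c⁻¹ := by group
        _ = c * ((c⁻¹ * b * c) * z) * c⁻¹ := by rw [h2]
        _ = b * (c * z * c⁻¹) := by group
    · push Not at hall
      obtain ⟨q, hq, hq1, hzq⟩ := hall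
      have hmemQ : ∀ a, PEl p a → a ∈ Q := by
        intro a ha
        by_cases ha1 : a = 1
        · rw [ha1]; exact Q.one_mem
        rcases hT z q a hzel hz1 (PEl.of_mem hQp hq) hq1 ha ha1 with h | h | h
        · exact absurd h hzq
        · obtain ⟨c, hc⟩ := isConj_iff.1 h
          rw [← hc]; exact hQn.conj_mem q hq c
        · obtain ⟨c, hc⟩ := isConj_iff.1 h
          rw [← hc]; exact hQn.conj_mem z hzQ c
      have hPQ : (P : Subgroup X) = Q := le_antisymm (fun a ha => hmemQ a (hpel a ha)) hQP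
      let A : Subgroup X :=
        { carrier := {a | a ∈ (P : Subgroup X) ∧ ∀ g ∈ (P : Subgroup X), g * a = a * g}
          mul_mem' := by
            rintro a b ⟨ha, ha'⟩ ⟨hb, hb'⟩
            refine ⟨(P : Subgroup X).mul_mem ha hb, fun g hg => ?_⟩
            rw [← mul_assoc, ha' g hg, mul_assoc, hb' g hg, mul_assoc]
          one_mem' := ⟨(P : Subgroup X).one_mem, fun g _ => by rw [mul_one, one_mul]⟩
          inv_mem' := by
            rintro a ⟨ha, ha'⟩
            refine ⟨(P : Subgroup X).inv_mem ha, fun g hg => ?_⟩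
            rw [← mul_inv_eq_iff_eq_mul, ← mul_left_inj (a := a)] at *
            have := ha' g hg
            calc g * a⁻¹ * g⁻¹ * a = (a⁻¹ * (a * g)) * a⁻¹ * g⁻¹ * a := by group
              _ = (a⁻¹ * (g * a)) * a⁻¹ * g⁻¹ * a := by rw [this]
              _ = a⁻¹ * a := by group }
      have hmemA : ∀ a, a ∈ A ↔ a ∈ (P : Subgroup X) ∧ ∀ g ∈ (P : Subgroup X), g * a = a * g := fun a => Iff.rfl
      have hPn : (P : Subgroup X).Normal := by rw [hPQ]; exact hQn
      have hAn : A.Normal := by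
        constructor
        intro a ha c
        rw [hmemA] at ha ⊢
        refine ⟨hPn.conj_mem a ha.1 c, fun g hg => ?_⟩
        have h1 : c⁻¹ * g * c ∈ (P : Subgroup X) := by
          have := hPn.conj_mem g hg c⁻¹
          rwa [inv_inv] at this
        have h2 := ha.2 _ h1
        calc g * (c * a * c⁻¹) = c * ((c⁻¹ * g * c) * a) * c⁻¹ := by group
          _ = c * (a * (c⁻¹ * g * c)) * c⁻¹ := by rw [h2]
          _ = c * a * c⁻¹ * g := by group
      have hzA : z ∈ A := ⟨hzP', hzP⟩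
      have hnA : ¬ (P : Subgroup X) ≤ A := by
        intro h
        obtain ⟨a, ha, b, hb, hab⟩ := hnc
        exact hab ((h hb).2 a ha)
      refine ⟨A, hAn, fun a ha => ha.1, hzA, ?_, hnA⟩
      intro a ha ha1
      by_contra hza
      apply hnA
      intro b hb
      by_cases hb1 : b = 1
      · rw [hb1]; exact A.one_mem
      rcases hT z a b hzel hz1 (hpel a ha.1) ha1 (hpel b hb) hb1 with h | h | h
      · exact absurd h hza
      · obtain ⟨c, hc⟩ := isConj_iff.1 h
        rw [← hc]; exact hAn.conj_mem a ha c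
      · obtain ⟨c, hc⟩ := isConj_iff.1 h
        rw [← hc]; exact hAn.conj_mem z hzA c
  obtain ⟨y, hyP, hyA⟩ := Set.not_subset.1 hPA
  have hne : ∀ a, a ∉ A → a ≠ 1 := fun a ha h => ha (by rw [h]; exact A.one_mem)
  have hnz : ∀ a, a ∉ A → ¬ IsConj z a := by
    intro a ha h
    obtain ⟨c, hc⟩ := isConj_iff.1 h
    exact ha (by rw [← hc]; exact hAn.conj_mem z hzA c)
  refine main_count (p := p) P.isPGroup' hAn hAP hzA hz1 hAz hCz hyP hyA ?_ (hcent y (hpel y hyP) (hne y hyA))
  intro a ha haA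
  rcases hT z y a hzel hz1 (hpel y hyP) (hne y hyA) (hpel a ha) (hne a haA) with h | h | h
  · exact absurd h (hnz y hyA)
  · exact h
  · exact absurd h (hnz a haA)

end count

/-! ### Centralizers -/

section cent

variable {X : Type*} [Group X] [Finite X] {p : ℕ} [hp : Fact p.Prime]

/-- If `O_{p'}(X) = 1`, the centralizer of a nontrivial normal `p`-subgroup is a `p`-group. -/
theorem isPGroup_centralizer (hN : NilCent p X) (hcore : pPrimeCore p X = ⊥) {Q : Subgroup X} (hQn : Q.Normal)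
    (hQp : IsPGroup p Q) (hQ1 : Q ≠ ⊥) : IsPGroup p (Subgroup.centralizer (Q : Set X)) := by
  obtain ⟨⟨q, hq⟩, hq1⟩ := Subgroup.ne_bot_iff_exists_ne_one.1 hQ1
  have hq1' : q ≠ 1 := fun h => hq1 (Subtype.ext h)
  have hn : (Subgroup.centralizer (Q : Set X)).Normal := inferInstance
  have hle : Subgroup.centralizer (Q : Set X) ≤ Subgroup.centralizer ({q} : Set X) := by
    intro g hg
    rw [Subgroup.mem_centralizer_singleton_iff]
    exact (Subgroup.mem_centralizer_iff.1 hg q hq).symm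
  have h1 := hasNormalPComplement_of_injective (Subgroup.inclusion hle) (Subgroup.inclusion_injective hle)
    (hN q (PEl.of_mem hQp hq) hq1')
  obtain ⟨K, hK, hpK, k, hk⟩ := OddOrderLocal.NilpotentQuotient.exists_of_hasNormalPComplement h1
  have h2 : K ≤ pPrimeCore p (Subgroup.centralizer (Q : Set X)) :=
    Lib.Cores.le_pPrimeCore hK ((Nat.Prime.coprime_iff_not_dvd hp.out).2 hpK).symm
  have h3 : K = ⊥ := by
    rw [eq_bot_iff]
    refine h2.trans ?_
    have h4 := Lib.Cores.map_subtype_pPrimeCore p hn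
    rw [hcore, inf_bot_eq] at h4
    exact ((Subgroup.map_eq_bot_iff_of_injective _ (Subgroup.subtype_injective _)).1 h4).le
  rw [h3, Subgroup.index_bot] at hk
  exact IsPGroup.of_card hk

theorem cent_isPGroup (hN : NilCent p X) (hcore : pPrimeCore p X = ⊥) {Q : Subgroup X} (hQn : Q.Normal)
    (hQp : IsPGroup p Q) (hQ1 : Q ≠ ⊥) (x : X) (hx : PEl p x) (hx1 : x ≠ 1) :
    IsPGroup p (Subgroup.centralizer ({x} : Set X)) := by
  have hCQ := isPGroup_centralizer hN hcore hQn hQp hQ1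
  -- `p'`-elements of the centralizer are trivial
  have key : ∀ t : X, t * x = x * t → ¬ p ∣ orderOf t → t = 1 := by
    intro t htx ht
    have hcop : (Nat.card (Subgroup.zpowers t)).Coprime p := by
      rw [Nat.card_zpowers]
      exact ((Nat.Prime.coprime_iff_not_dvd hp.out).2 ht).symm
    have htop : ∀ H : Subgroup X, H ≤ Subgroup.normalizer (Q : Set X) := fun H => by
      rw [Subgroup.normalizer_eq_top_iff.2 hQn]; exact le_top
    have hc : Commute t x := htx
    have h1 : Subgroup.zpowers t ≤ Subgroup.centralizer (Q : Set X) := by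
      refine S0028.result p (Subgroup.zpowers x) (Subgroup.zpowers t) Q hx.isPGroup hcop hQp ?_ (htop _) (htop _) ?_
      · rintro _ ⟨m, rfl⟩
        rw [Subgroup.mem_centralizer_iff]
        rintro _ ⟨n, rfl⟩
        exact (hc.zpow_zpow n m).eq
      · rintro u ⟨huQ, huC⟩
        have hux : u * x = x * u := (Subgroup.mem_centralizer_iff.1 huC x (Subgroup.mem_zpowers x)).symm
        have h2 : t * u = u * t := by
          refine hN.commute (A := Q ⊓ Subgroup.centralizer ({x} : Set X)) hx hx1 (hQp.to_le inf_le_left) ?_ htx ht ?_ ?_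
          · intro a ha
            exact Subgroup.mem_centralizer_singleton_iff.1 ha.2
          · intro a ha
            refine ⟨hQn.conj_mem a ha.1 t, ?_⟩
            show t * a * t⁻¹ ∈ Subgroup.centralizer ({x} : Set X)
            rw [Subgroup.mem_centralizer_singleton_iff]
            have h3 : Commute a x := Subgroup.mem_centralizer_singleton_iff.1 ha.2
            exact ((hc.mul_left h3).mul_left hc.inv_left).eq
          · refine ⟨huQ, ?_⟩
            show u ∈ Subgroup.centralizer ({x} : Set X)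
            rw [Subgroup.mem_centralizer_singleton_iff]
            exact hux
        show u ∈ Subgroup.centralizer ((Subgroup.zpowers t : Subgroup X) : Set X)
        rw [Subgroup.mem_centralizer_iff]
        rintro _ ⟨n, rfl⟩
        exact ((show Commute t u from h2).zpow_left n).eq
    have h2 := PEl.of_mem hCQ (h1 (Subgroup.mem_zpowers t))
    obtain ⟨k, hk⟩ := h2
    rcases Nat.eq_zero_or_pos k with h0 | h0
    · rw [h0, pow_zero, orderOf_eq_one_iff] at hk
      exact hk
    · exact absurd (hk ▸ dvd_pow_self p h0.ne') ht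
  rw [IsPGroup.iff_orderOf]
  rintro ⟨g, hg⟩
  obtain ⟨u, t, hut, hc, -, ht, ⟨k, hk⟩, hpt⟩ := Blocks.RegularCount.exists_pPart (p := p) g
  have ht1 : t = 1 := by
    refine key t ?_ hpt
    obtain ⟨m, hm⟩ := Subgroup.mem_zpowers_iff.1 ht
    have h1 : Commute g x := Subgroup.mem_centralizer_singleton_iff.1 hg
    rw [← hm]
    exact (h1.zpow_left m).eq
  rw [ht1, mul_one] at hut
  exact ⟨k, by rw [← Subgroup.orderOf_coe]; change orderOf g = _; rw [← hut, hk]⟩

end cent

/-! ### Quotients by normal `p'`-subgroups -/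

section quot

variable {X : Type*} [Group X] [Finite X] {p : ℕ} [hp : Fact p.Prime]

/-- `p`-elements lift -/
theorem exists_lift (K : Subgroup X) [K.Normal] {y : X ⧸ K} (hy : PEl p y) :
    ∃ x : X, PEl p x ∧ (x : X ⧸ K) = y := by
  obtain ⟨g, rfl⟩ := QuotientGroup.mk_surjective y
  obtain ⟨u, t, hut, -, -, ht, hu, hpt⟩ := Blocks.RegularCount.exists_pPart (p := p) g
  refine ⟨u, hu, ?_⟩
  have h1 : (t : X ⧸ K) = 1 := by
    obtain ⟨k, hk⟩ := hy
    obtain ⟨m, hm⟩ := Subgroup.mem_zpowers_iff.1 ht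
    have h2 : orderOf (t : X ⧸ K) ∣ p ^ k := by
      rw [← hk, ← hm]
      exact orderOf_dvd_of_mem_zpowers (Subgroup.mem_zpowers_iff.2 ⟨m, rfl⟩)
    have h3 : orderOf (t : X ⧸ K) ∣ orderOf t := orderOf_map_dvd (QuotientGroup.mk' K) t
    have h4 := Nat.eq_one_of_dvd_coprimes
      (Nat.Coprime.pow_right k ((Nat.Prime.coprime_iff_not_dvd hp.out).2 hpt).symm) h3 h2
    exact orderOf_eq_one_iff.1 h4
  rw [← hut, QuotientGroup.mk_mul, h1, mul_one]

omit [Finite X] in
theorem ne_one_of_mk {K : Subgroup X} [K.Normal] {x : X} (h : (x : X ⧸ K) ≠ 1) : x ≠ 1 := by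
  rintro rfl
  exact h rfl

theorem nilCent_quot (hN : NilCent p X) (K : Subgroup X) [K.Normal] (hK : (Nat.card K).Coprime p) :
    NilCent p (X ⧸ K) := by
  intro y hy hy1
  obtain ⟨x, hx, rfl⟩ := exists_lift K hy
  have hx1 := ne_one_of_mk hy1
  have h1 := PLocal.CoprimeLift.map_centralizer_mk K (Subgroup.zpowers x) hK hx.isPGroup
  have e1 : Subgroup.centralizer ((Subgroup.zpowers x : Subgroup X) : Set X) = Subgroup.centralizer ({x} : Set X) := by
    rw [Subgroup.zpowers_eq_closure, Subgroup.centralizer_closure]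
  have e2 : Subgroup.centralizer (((Subgroup.zpowers x).map (QuotientGroup.mk' K) : Subgroup (X ⧸ K)) : Set (X ⧸ K)) =
      Subgroup.centralizer ({(x : X ⧸ K)} : Set (X ⧸ K)) := by
    rw [MonoidHom.map_zpowers, Subgroup.zpowers_eq_closure, Subgroup.centralizer_closure]
    rfl
  rw [e1, e2] at h1
  rw [← h1]
  exact Transfer.NormalPComplement.of_surjective
    ((QuotientGroup.mk' K).subgroupMap (Subgroup.centralizer ({x} : Set X)))
    (MonoidHom.subgroupMap_surjective _ _) (hN x hx hx1)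

end quot

/-! ### The theorem -/

theorem sylow_comm_two {G : Type*} [Group G] [Finite G] {p : ℕ} [hp : Fact p.Prime] (hp2 : p ≠ 2)
    (hN : NilCent p G) (hT : ∀ x y z : G, PEl p x → x ≠ 1 → PEl p y → y ≠ 1 → PEl p z → z ≠ 1 →
      IsConj x y ∨ IsConj y z ∨ IsConj x z) (P : Sylow p G) {a b : G} (ha : a ∈ P) (hb : b ∈ P) :
    a * b = b * a := by
  classical
  by_cases hP1 : (P : Subgroup G) = ⊥
  · have h1 : a ∈ (P : Subgroup G) := ha
    rw [hP1, Subgroup.mem_bot] at h1
    rw [h1, one_mul, mul_one]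
  obtain ⟨W, hW⟩ : ∃ W, W = centerThompsonAOf (P : Subgroup G) := ⟨_, rfl⟩
  have hW1 : W ≠ ⊥ := by rw [hW]; exact PLocal.ThompsonJA.centerThompsonAOf_ne_bot _ P.isPGroup' hP1
  have hWP : W ≤ P := by rw [hW]; exact PLocal.ThompsonJA.centerThompsonAOf_le _
  have hfus : ∀ x y : G, x ∈ (P : Subgroup G) → y ∈ (P : Subgroup G) → IsConj x y →
      ∃ n ∈ Subgroup.normalizer (W : Set G), n * x * n⁻¹ = y := by
    intro x y hx hy hxy
    obtain ⟨g, hg⟩ := isConj_iff.1 hxy
    obtain ⟨-, h1⟩ := (S3081.result hp2 P (P : Subgroup G) (isStronglyClosed_self _)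
      (hN.not_involves' hp2)).1 {x} (by
        rw [Set.singleton_subset_iff]; exact hx)
    obtain ⟨n, hn, hn1⟩ := h1 g (by
      rintro _ ⟨z, hz, rfl⟩
      rw [Set.mem_singleton_iff] at hz
      subst hz
      change g * z * g⁻¹ ∈ (P : Subgroup G)
      rw [hg]; exact hy)
    refine ⟨n, by rw [hW]; exact hn, ?_⟩
    rw [← hn1 x rfl, hg]
  obtain ⟨N, hNdef⟩ : ∃ N : Subgroup G, N = Subgroup.normalizer (W : Set G) := ⟨_, rfl⟩
  rw [← hNdef] at hfus
  have hPN : (P : Subgroup G) ≤ N := by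
    rw [hNdef, hW]
    exact Subgroup.le_normalizer.trans (PLocal.ThompsonJA.normalizer_le_normalizer_centerThompsonAOf _)
  -- the group `N`
  have hNN : NilCent p N := hN.of_injective N.subtype N.subtype_injective
  have hTN : ∀ x y z : N, PEl p x → x ≠ 1 → PEl p y → y ≠ 1 → PEl p z → z ≠ 1 →
      IsConj x y ∨ IsConj y z ∨ IsConj x z := by
    have hne : ∀ w : N, w ≠ 1 → (w : G) ≠ 1 := fun w hw h => hw (Subtype.ext h)
    have hcj : ∀ x y : N, PEl p x → PEl p y → IsConj (x : G) (y : G) → IsConj x y := by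
      intro x y hx hy hxy
      obtain ⟨u, hu, hux⟩ := H634.Red.exists_conj_mem P hPN x.2 (hx.map hp.out N.subtype)
      obtain ⟨v, hv, hvy⟩ := H634.Red.exists_conj_mem P hPN y.2 (hy.map hp.out N.subtype)
      have h1 : IsConj (u * (x : G) * u⁻¹) (v * (y : G) * v⁻¹) :=
        ((isConj_iff.2 ⟨u, rfl⟩ : IsConj (x : G) (u * (x : G) * u⁻¹)).symm.trans hxy).trans (isConj_iff.2 ⟨v, rfl⟩)
      obtain ⟨n, hn, hn1⟩ := hfus _ _ hux hvy h1
      refine isConj_iff.2 ⟨⟨v⁻¹ * n * u, N.mul_mem (N.mul_mem (N.inv_mem hv) hn) hu⟩, Subtype.ext ?_⟩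
      change (v⁻¹ * n * u) * (x : G) * (v⁻¹ * n * u)⁻¹ = y
      calc (v⁻¹ * n * u) * (x : G) * (v⁻¹ * n * u)⁻¹ = v⁻¹ * (n * (u * x * u⁻¹) * n⁻¹) * v := by group
        _ = v⁻¹ * (v * y * v⁻¹) * v := by rw [hn1]
        _ = y := by group
    intro x y z hx hx1 hy hy1 hz hz1
    rcases hT x y z (hx.map hp.out N.subtype) (hne x hx1) (hy.map hp.out N.subtype) (hne y hy1)
      (hz.map hp.out N.subtype) (hne z hz1) with h | h | h
    · exact Or.inl (hcj x y hx hy h)
    · exact Or.inr (Or.inl (hcj y z hy hz h))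
    · exact Or.inr (Or.inr (hcj x z hx hz h))
  -- the quotient
  have hKc := Lib.Cores.pPrimeCore_coprime (G := N) p
  have hNX : NilCent p (N ⧸ pPrimeCore p N) := nilCent_quot hNN _ hKc
  have hTX : ∀ x y z : N ⧸ pPrimeCore p N, PEl p x → x ≠ 1 → PEl p y → y ≠ 1 → PEl p z → z ≠ 1 →
      IsConj x y ∨ IsConj y z ∨ IsConj x z := by
    intro x y z hx hx1 hy hy1 hz hz1
    obtain ⟨x, hx', rfl⟩ := exists_lift _ hx
    obtain ⟨y, hy', rfl⟩ := exists_lift _ hy
    obtain ⟨z, hz', rfl⟩ := exists_lift _ hz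
    rcases hTN x y z hx' (ne_one_of_mk hx1) hy' (ne_one_of_mk hy1) hz' (ne_one_of_mk hz1) with h | h | h
    · exact Or.inl (isConj_map (QuotientGroup.mk' _) h)
    · exact Or.inr (Or.inl (isConj_map (QuotientGroup.mk' _) h))
    · exact Or.inr (Or.inr (isConj_map (QuotientGroup.mk' _) h))
  have hcore := Lib.Cores.pPrimeCore_quotient_pPrimeCore (G := N) p
  -- the normal subgroup
  have hWN : W ≤ N := hWP.trans hPN
  have hWn : (W.subgroupOf N).Normal := by rw [hNdef]; exact Subgroup.normal_in_normalizer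
  have hWp : IsPGroup p (W.subgroupOf N) := (P.isPGroup'.to_le hWP).comap_of_injective _ N.subtype_injective
  have hQn : ((W.subgroupOf N).map (QuotientGroup.mk' (pPrimeCore p N))).Normal :=
    Lib.Cores.map_normal_of_surjective (QuotientGroup.mk'_surjective _) hWn
  have hQ1 : (W.subgroupOf N).map (QuotientGroup.mk' (pPrimeCore p N)) ≠ ⊥ := by
    intro h0
    have h1 : W.subgroupOf N ≤ pPrimeCore p N := by
      intro w hw
      have h2 : QuotientGroup.mk' (pPrimeCore p N) w ∈ (W.subgroupOf N).map (QuotientGroup.mk' (pPrimeCore p N)) :=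
        ⟨w, hw, rfl⟩
      rw [h0, Subgroup.mem_bot] at h2
      exact (QuotientGroup.eq_one_iff w).1 h2
    obtain ⟨⟨w, hw⟩, hw1⟩ := Subgroup.ne_bot_iff_exists_ne_one.1 hW1
    have hw1' : (⟨w, hWN hw⟩ : N) ≠ 1 := fun h => hw1 (Subtype.ext (congrArg (fun g : N => (g : G)) h))
    obtain ⟨k, hk⟩ := PEl.of_mem hWp (x := ⟨w, hWN hw⟩) hw
    have h3 : orderOf (⟨w, hWN hw⟩ : N) ∣ Nat.card (pPrimeCore p N) := by
      have := orderOf_dvd_natCard (⟨⟨w, hWN hw⟩, h1 hw⟩ : pPrimeCore p N)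
      rwa [← Subgroup.orderOf_coe] at this
    rcases Nat.eq_zero_or_pos k with hk0 | hk0
    · rw [hk0, pow_zero, orderOf_eq_one_iff] at hk
      exact hw1' hk
    · rw [hk] at h3
      exact (Nat.Prime.coprime_iff_not_dvd hp.out).1 hKc.symm ((dvd_pow_self p hk0.ne').trans h3)
  have hcomm := comm_of_cent (cent_isPGroup hNX hcore hQn (hWp.map _) hQ1) hTX hQn (hWp.map _) hQ1
    ((P.subtype hPN).mapSurjective (QuotientGroup.mk'_surjective (pPrimeCore p N)))
  -- back
  have hPmem : ∀ c : G, ∀ hc : c ∈ P, (QuotientGroup.mk' (pPrimeCore p N) ⟨c, hPN hc⟩) ∈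
      ((P.subtype hPN).mapSurjective (QuotientGroup.mk'_surjective (pPrimeCore p N))) := by
    intro c hc
    exact ⟨⟨c, hPN hc⟩, hc, rfl⟩
  have h1 := hcomm _ (hPmem a ha) _ (hPmem b hb)
  rw [← map_mul, ← map_mul] at h1
  have h2 : (⟨a, hPN ha⟩ * ⟨b, hPN hb⟩ : N)⁻¹ * (⟨b, hPN hb⟩ * ⟨a, hPN ha⟩) ∈ pPrimeCore p N :=
    QuotientGroup.eq.1 h1
  have h3 : (a * b)⁻¹ * (b * a) ∈ (P : Subgroup G) :=
    (P : Subgroup G).mul_mem ((P : Subgroup G).inv_mem ((P : Subgroup G).mul_mem ha hb))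
      ((P : Subgroup G).mul_mem hb ha)
  obtain ⟨k, hk⟩ := PEl.of_mem P.isPGroup' h3
  have h4 : orderOf ((a * b)⁻¹ * (b * a)) ∣ Nat.card (pPrimeCore p N) := by
    have := orderOf_dvd_natCard (⟨_, h2⟩ : pPrimeCore p N)
    rwa [← Subgroup.orderOf_coe, ← Subgroup.orderOf_coe] at this
  rcases Nat.eq_zero_or_pos k with hk0 | hk0
  · rw [hk0, pow_zero, orderOf_eq_one_iff] at hk
    exact inv_mul_eq_one.1 hk
  · rw [hk] at h4
    exact ((Nat.Prime.coprime_iff_not_dvd hp.out).1 hKc.symm ((dvd_pow_self p hk0.ne').trans h4)).elim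

end Cfsg.Agent.H211.Two.SylComm
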